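import Cfsg.Agent.Helper17.M11Q3TC.Lemmas

set_option autoImplicit false
set_option linter.all false

noncomputable section

namespace Cfsg.Agent.Helper17.M11Q3TC

theorem F1 : act 0 n0 = n0 := d1_0 B0 
def n1 : Q := act 1 n0
theorem D1 : act 1 n0 = n1 := rfl
def n2 : Q := act 0 n1
theorem D2 : act 0 n1 = n2 := rfl
theorem F2 : act 1 n2 = n2 := d0_2 D1 D2 (iv D2) (iv D1) F1

end Cfsg.Agent.Helper17.M11Q3TC
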