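import Cfsg.Agent.Helper17.M11Q3TC.Final

set_option autoImplicit false
set_option linter.all false
set_option maxRecDepth 100000

noncomputable section

namespace Cfsg.Agent.Helper17.M11Q3TC

theorem N1 : nd 1 = n1 := ndS (p := 0) (l := 1) rfl N0 D1
theorem N2 : nd 2 = n2 := ndS (p := 1) (l := 0) rfl N1 D2
theorem Q1 : ∀ i, i < 1 → P i := stepQ 0 Q0 (allL N0 (tt N0 F1) (tt N1 D1))
theorem Q2 : ∀ i, i < 2 → P i := stepQ 1 Q1 (allL N1 (tt N2 D2) (tt N0 (iv D1)))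
theorem Q3 : ∀ i, i < 3 → P i := stepQ 2 Q2 (allL N2 (tt N1 (iv D2)) (tt N2 F2))

theorem closedN : ∀ i, i < N → P i := Q3

end Cfsg.Agent.Helper17.M11Q3TC
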